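/-
Frobenius-Schur indicator through invariant bilinear forms.

* `fsInd χ` = |G|⁻¹ * ∑ s, χ (s * s)
* `card_sqrt_eq_sum`: #{s | s * s = g} = ∑ χ, fsInd χ * χ g
* `fsInd_eq_zero_of_not_real`, `fsInd_eq_one_or_neg_one`, `conj_fsInd`
* `fsInd_eq_of_restrict`: χ real irreducible of G, ψ real irreducible of H, [χ|H, ψ] = 1 gives
  fsInd χ = fsInd ψ
-/
import Cfsg.Agent.Lib.Char.Orth

set_option autoImplicit false

namespace Cfsg.Agent.FSInd

open Cfsg Module
open scoped ComplexConjugate

variable {G : Type*} [Group G] [Fintype G]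
variable {V : Type*} [AddCommGroup V] [Module ℂ V] [FiniteDimensional ℂ V]

/-- The Frobenius-Schur indicator of a function. -/
noncomputable def fsInd (χ : G → ℂ) : ℂ := (Nat.card G : ℂ)⁻¹ * ∑ s : G, χ (s * s)

/-- A bilinear form invariant under `ρ`. -/
def IsInvForm (ρ : Representation ℂ G V) (B : V →ₗ[ℂ] V →ₗ[ℂ] ℂ) : Prop :=
  ∀ g u v, B (ρ g u) (ρ g v) = B u v

theorem card_ne : (Nat.card G : ℂ) ≠ 0 := Nat.cast_ne_zero.2 Nat.card_pos.ne'

theorem fsInd_eq_finsum (χ : G → ℂ) : (Nat.card G : ℂ)⁻¹ * ∑ᶠ s : G, χ (s * s) = fsInd χ := by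
  rw [fsInd, finsum_eq_sum_of_fintype]

theorem finrank_forms (ρ : Representation ℂ G V) :
    classInner ρ.character (fun g => conj (ρ.character g)) =
      (finrank ℂ (Representation.IntertwiningMap ρ ρ.dual) : ℕ) := by
  have : Invertible (Nat.card G : ℂ) := invertibleOfNonzero card_ne
  rw [← Representation.card_inv_mul_sum_char_mul_char_eq_finrank, classInner]
  congr 1
  refine Fintype.sum_equiv (Equiv.inv G) _ _ fun g => ?_
  simp [Complex.conj_conj]

theorem finrank_forms_irr (ρ : Representation ℂ G V) [ρ.IsIrreducible] :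
    finrank ℂ (Representation.IntertwiningMap ρ ρ.dual) =
      if (∀ g : G, (ρ.character g).im = 0) then 1 else 0 := by
  classical
  apply Nat.cast_injective (R := ℂ)
  rw [← finrank_forms, Char.classInner_irr (Char.isIrrCharacter_character ρ)
    (Char.IsIrrCharacter.conj (Char.isIrrCharacter_character ρ))]
  simp only [Nat.cast_ite, Nat.cast_one, Nat.cast_zero]
  refine if_congr ?_ rfl rfl
  rw [funext_iff]
  exact forall_congr' fun g => by rw [eq_comm, Complex.conj_eq_iff_im]

/-- An invariant form as an intertwining map to the dual. -/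
noncomputable def formMap {ρ : Representation ℂ G V} (B : V →ₗ[ℂ] V →ₗ[ℂ] ℂ)
    (hB : IsInvForm ρ B) : Representation.IntertwiningMap ρ ρ.dual :=
  ⟨B, fun g => by
    ext u v
    show B (ρ g u) v = B u (ρ g⁻¹ v)
    rw [← hB g u (ρ g⁻¹ v), ← Module.End.mul_apply, ← map_mul, mul_inv_cancel, map_one,
      Module.End.one_apply]⟩

omit [FiniteDimensional ℂ V] [Fintype G] in
theorem formMap_toLinearMap {ρ : Representation ℂ G V} (B : V →ₗ[ℂ] V →ₗ[ℂ] ℂ)
    (hB : IsInvForm ρ B) : (formMap B hB).toLinearMap = B := rfl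

theorem form_eq_zero {ρ : Representation ℂ G V} [ρ.IsIrreducible]
    (hn : ¬ ∀ g : G, (ρ.character g).im = 0) {B : V →ₗ[ℂ] V →ₗ[ℂ] ℂ} (hB : IsInvForm ρ B) :
    B = 0 := by
  have h := finrank_forms_irr ρ
  rw [if_neg hn] at h
  have : Subsingleton (Representation.IntertwiningMap ρ ρ.dual) := Module.finrank_zero_iff.1 h
  exact congrArg Representation.IntertwiningMap.toLinearMap
    (Subsingleton.elim (formMap B hB) 0)

theorem exists_form {ρ : Representation ℂ G V} [ρ.IsIrreducible]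
    (hr : ∀ g : G, (ρ.character g).im = 0) :
    ∃ B : V →ₗ[ℂ] V →ₗ[ℂ] ℂ, IsInvForm ρ B ∧ B ≠ 0 ∧
      ∀ B' : V →ₗ[ℂ] V →ₗ[ℂ] ℂ, IsInvForm ρ B' → ∃ c : ℂ, B' = c • B := by
  have h := finrank_forms_irr ρ
  rw [if_pos hr] at h
  obtain ⟨f, hf0, hf⟩ := finrank_eq_one_iff'.1 h
  refine ⟨f.toLinearMap, fun g u v => ?_, fun hz => hf0 ?_, fun B' hB' => ?_⟩
  · have := LinearMap.congr_fun (LinearMap.congr_fun (f.isIntertwining' g) u) (ρ g v)
    change f.toLinearMap (ρ g u) (ρ g v) = f.toLinearMap u (ρ g⁻¹ (ρ g v)) at this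
    rwa [← Module.End.mul_apply, ← map_mul, inv_mul_cancel, map_one, Module.End.one_apply] at this
  · exact Representation.IntertwiningMap.toLinearMap_injective _ _ hz
  · obtain ⟨c, hc⟩ := hf (formMap B' hB')
    exact ⟨c, (congrArg Representation.IntertwiningMap.toLinearMap hc).symm⟩

/-- The averaging trick: the indicator is the symmetry sign times `[χ, conj χ]`. -/
theorem fsInd_eq_smul {ρ : Representation ℂ G V} {ε : ℂ}
    (hε : ∀ B, IsInvForm ρ B → ∀ u v, B v u = ε * B u v) :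
    fsInd ρ.character = ε * classInner ρ.character (fun g => conj (ρ.character g)) := by
  classical
  let b := Module.finBasis ℂ V
  let M : Fin (finrank ℂ V) → Fin (finrank ℂ V) → (V →ₗ[ℂ] V →ₗ[ℂ] ℂ) := fun i j =>
    ∑ g : G, LinearMap.mk₂ ℂ (fun u v => b.coord i (ρ g u) * b.coord j (ρ g v))
      (fun _ _ _ => by simp [add_mul]) (fun _ _ _ => by simp [mul_assoc])
      (fun _ _ _ => by simp [mul_add]) (fun _ _ _ => by simp [mul_left_comm])
  have hM : ∀ i j, IsInvForm ρ (M i j) := by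
    intro i j h u v
    simp only [M, LinearMap.coe_sum, Finset.sum_apply, LinearMap.mk₂_apply]
    refine Fintype.sum_equiv (Equiv.mulRight h) _ _ fun g => ?_
    simp [map_mul]
  have hchar : ∀ g, ρ.character g = ∑ i, b.coord i (ρ g (b i)) := by
    intro g
    rw [Representation.character, LinearMap.trace_eq_matrix_trace ℂ b, Matrix.trace]
    simp [Matrix.diag, LinearMap.toMatrix_apply]
  have h1 : ∑ g : G, ρ.character (g * g) = ∑ i, ∑ j, M i j (b j) (b i) := by
    simp only [M, LinearMap.coe_sum, Finset.sum_apply, LinearMap.mk₂_apply]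
    rw [Finset.sum_congr rfl fun i _ => Finset.sum_comm, Finset.sum_comm]
    refine Finset.sum_congr rfl fun g _ => ?_
    rw [hchar]
    refine Finset.sum_congr rfl fun i _ => ?_
    have hv : ρ g (b i) = ∑ j, b.coord j (ρ g (b i)) • b j := by
      simpa using (b.sum_repr (ρ g (b i))).symm
    conv_lhs => rw [map_mul, Module.End.mul_apply, hv, map_sum, map_sum]
    refine Finset.sum_congr rfl fun j _ => ?_
    rw [map_smul, map_smul, smul_eq_mul, mul_comm]
  have h2 : ∑ g : G, ρ.character g * ρ.character g = ∑ i, ∑ j, M i j (b i) (b j) := by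
    simp only [M, LinearMap.coe_sum, Finset.sum_apply, LinearMap.mk₂_apply]
    rw [Finset.sum_congr rfl fun i _ => Finset.sum_comm, Finset.sum_comm]
    refine Finset.sum_congr rfl fun g _ => ?_
    rw [hchar, Finset.sum_mul_sum]
  have h3 : ∀ i j, M i j (b j) (b i) = ε * M i j (b i) (b j) := fun i j => hε _ (hM i j) _ _
  simp only [fsInd, classInner, h1, Complex.conj_conj, h2, h3, ← Finset.mul_sum]
  ring

theorem sign_cases {ρ : Representation ℂ G V} [ρ.IsIrreducible]
    (hr : ∀ g : G, (ρ.character g).im = 0) :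
    ∃ ε : ℂ, (ε = 1 ∨ ε = -1) ∧ fsInd ρ.character = ε ∧
      ∀ B, IsInvForm ρ B → ∀ u v, B v u = ε * B u v := by
  obtain ⟨B, hB, hB0, huniq⟩ := exists_form hr
  obtain ⟨c, hc⟩ := huniq B.flip fun g u v => hB g v u
  have hc' : ∀ u v, B v u = c * B u v := fun u v => by
    simpa using LinearMap.congr_fun (LinearMap.congr_fun hc u) v
  have hc2 : c * c = 1 := by
    by_contra hne
    refine hB0 (LinearMap.ext fun u => LinearMap.ext fun v => ?_)
    have h2 : (1 - c * c) * B u v = 0 := by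
      linear_combination (hc' v u) + c * (hc' u v)
    simpa [sub_eq_zero, Ne.symm hne] using h2
  have hall : ∀ B', IsInvForm ρ B' → ∀ u v, B' v u = c * B' u v := by
    intro B' hB' u v
    obtain ⟨d, rfl⟩ := huniq B' hB'
    simp only [LinearMap.smul_apply, smul_eq_mul, hc' u v]
    ring
  refine ⟨c, mul_self_eq_one_iff.1 hc2, ?_, hall⟩
  rw [fsInd_eq_smul hall, finrank_forms, finrank_forms_irr, if_pos hr, Nat.cast_one, mul_one]

theorem fsInd_eq_zero_of_not_real {χ : G → ℂ} (hχ : IsIrrCharacter G χ)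
    (hn : ¬ ∀ g : G, (χ g).im = 0) : fsInd χ = 0 := by
  obtain ⟨n, ρ, hρ, rfl⟩ := hχ
  have := hρ
  rw [fsInd_eq_smul (ε := 0) fun B hB u v => by simp [form_eq_zero hn hB], zero_mul]

theorem fsInd_eq_one_or_neg_one {χ : G → ℂ} (hχ : IsIrrCharacter G χ)
    (hr : ∀ g : G, (χ g).im = 0) : fsInd χ = 1 ∨ fsInd χ = -1 := by
  obtain ⟨n, ρ, hρ, rfl⟩ := hχ
  have := hρ
  obtain ⟨ε, hε, he, -⟩ := sign_cases (ρ := ρ) hr
  rw [he]; exact hε

theorem real_of_fsInd_ne_zero {χ : G → ℂ} (hχ : IsIrrCharacter G χ) (h : fsInd χ ≠ 0) :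
    ∀ g : G, (χ g).im = 0 := by
  by_contra hn; exact h (fsInd_eq_zero_of_not_real hχ hn)

theorem conj_fsInd {χ : G → ℂ} (hχ : IsIrrCharacter G χ) : conj (fsInd χ) = fsInd χ := by
  by_cases hr : ∀ g : G, (χ g).im = 0
  · rcases fsInd_eq_one_or_neg_one hχ hr with h | h <;> simp [h]
  · simp [fsInd_eq_zero_of_not_real hχ hr]

/-- The number of square roots of `g`. -/
theorem card_sqrt_eq_sum [Fintype (IrrCharacter G)] (g : G) :
    (Nat.card {s : G // s * s = g} : ℂ) =
      ∑ χ : IrrCharacter G, fsInd (χ : G → ℂ) * (χ : G → ℂ) g := by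
  classical
  let f : G → ℂ := fun g => (Nat.card {s : G // s * s = g} : ℂ)
  have hf : IsClassFunction G f := by
    intro a h
    show (Nat.card {s : G // s * s = h * a * h⁻¹} : ℂ) = (Nat.card {s : G // s * s = a} : ℂ)
    congr 1
    refine (Nat.card_congr (Equiv.subtypeEquiv (MulAut.conj h).toEquiv fun s => ?_)).symm
    show s * s = a ↔ h * s * h⁻¹ * (h * s * h⁻¹) = h * a * h⁻¹
    rw [conj_mul, mul_left_inj, mul_right_inj]
  have key : ∀ χ : IrrCharacter G, classInner f (χ : G → ℂ) = fsInd (χ : G → ℂ) := by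
    intro χ
    rw [← conj_fsInd χ.2, fsInd, classInner, map_mul, map_inv₀, map_natCast, map_sum]
    congr 1
    rw [← Finset.sum_fiberwise Finset.univ (fun s : G => s * s) fun s => conj ((χ : G → ℂ) (s * s))]
    refine Finset.sum_congr rfl fun a _ => ?_
    rw [Finset.sum_congr rfl (g := fun _ => conj ((χ : G → ℂ) a))
      (fun s hs => by rw [(Finset.mem_filter.1 hs).2]), Finset.sum_const, nsmul_eq_mul]
    simp [f, Nat.card_eq_fintype_card, Fintype.card_subtype]
  have := congrFun (Char.classFunction_eq_sum hf) g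
  rw [Finset.sum_apply] at this
  rw [show (Nat.card {s : G // s * s = g} : ℂ) = f g from rfl, this]
  simp [key]

theorem fsInd_eq_of_restrict (H : Subgroup G) [Fintype H] {χ : G → ℂ} (hχ : IsIrrCharacter G χ)
    (hrχ : ∀ g : G, (χ g).im = 0) {ψ : H → ℂ} (hψ : IsIrrCharacter H ψ)
    (hrψ : ∀ h : H, (ψ h).im = 0) (hmult : classInner (fun h : H => χ h) ψ = 1) :
    fsInd χ = fsInd ψ := by
  classical
  obtain ⟨n, ρ, hρ, rfl⟩ := hχ
  obtain ⟨m, σ, hσ, rfl⟩ := hψ
  have := hρ
  have := hσ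
  obtain ⟨ε, -, hε1, hεB⟩ := sign_cases (ρ := ρ) hrχ
  obtain ⟨δ, -, hδ1, hδB⟩ := sign_cases (ρ := σ) hrψ
  obtain ⟨J, hJ, hJ0, -⟩ := exists_form (ρ := σ) hrψ
  obtain ⟨B, hB, hB0, -⟩ := exists_form (ρ := ρ) hrχ
  let τ : Representation ℂ H (Fin n → ℂ) := ρ.comp H.subtype
  have : Invertible (Nat.card H : ℂ) := invertibleOfNonzero card_ne
  have hτ : τ.character = fun h : H => ρ.character h := rfl
  have hconjψ : ∀ h : H, σ.character h⁻¹ = σ.character h := fun h => by
    rw [Char.character_inv, Complex.conj_eq_iff_im.2 (hrψ h)]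
  have hconjχ : ∀ h : H, ρ.character (h : G)⁻¹ = ρ.character h := fun h => by
    rw [Char.character_inv, Complex.conj_eq_iff_im.2 (hrχ h)]
  have hsum : (Nat.card H : ℂ)⁻¹ * ∑ h : H, ρ.character h * σ.character h = 1 := by
    rw [← hmult, classInner]
    exact congrArg _ (Finset.sum_congr rfl fun h _ => by rw [Complex.conj_eq_iff_im.2 (hrψ h)])
  have hd1 : finrank ℂ (Representation.IntertwiningMap σ τ) = 1 := by
    apply Nat.cast_injective (R := ℂ)
    rw [← Representation.card_inv_mul_sum_char_mul_char_eq_finrank, Nat.cast_one, ← hsum]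
    exact congrArg _ (Finset.sum_congr rfl fun h _ => by rw [hconjψ, hτ])
  have hd2 : finrank ℂ (Representation.IntertwiningMap τ σ.dual) = 1 := by
    apply Nat.cast_injective (R := ℂ)
    rw [← Representation.card_inv_mul_sum_char_mul_char_eq_finrank, Nat.cast_one, ← hsum]
    refine congrArg _ (Finset.sum_congr rfl fun h _ => ?_)
    rw [Representation.char_dual, hconjψ, hτ, mul_comm]
    show ρ.character ((h⁻¹ : H) : G) * _ = _
    rw [Subgroup.coe_inv, hconjχ]
  obtain ⟨f, hf0, -⟩ := finrank_eq_one_iff'.1 hd1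
  have hfl0 : f.toLinearMap ≠ 0 := fun h => hf0 (Representation.IntertwiningMap.toLinearMap_injective _ _ h)
  have hfc : ∀ (h : H) w, f.toLinearMap (σ h w) = ρ (h : G) (f.toLinearMap w) :=
    fun h w => LinearMap.congr_fun (f.isIntertwining' h) w
  have hfinj : LinearMap.ker f.toLinearMap = ⊥ := by
    let S : Subrepresentation σ := ⟨LinearMap.ker f.toLinearMap, fun h w hw => by
      rw [LinearMap.mem_ker] at hw ⊢
      rw [hfc, hw, map_zero]⟩
    rcases eq_bot_or_eq_top S with hS | hS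
    · exact congrArg Subrepresentation.toSubmodule hS
    · exact absurd (LinearMap.ker_eq_top.1 (congrArg Subrepresentation.toSubmodule hS)) hfl0
  obtain ⟨l, hl⟩ := f.toLinearMap.exists_leftInverse_of_injective hfinj
  let L : (Fin n → ℂ) →ₗ[ℂ] (Fin m → ℂ) :=
    (Nat.card H : ℂ)⁻¹ • ∑ h : H, σ h ∘ₗ l ∘ₗ ρ ((h : G)⁻¹)
  have hLc : ∀ (h : H) v, L (ρ (h : G) v) = σ h (L v) := by
    intro h v
    simp only [L, LinearMap.smul_apply, LinearMap.coe_sum, Finset.sum_apply, LinearMap.comp_apply,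
      map_smul, map_sum]
    congr 1
    refine Fintype.sum_equiv (Equiv.mulLeft h⁻¹) _ _ fun k => ?_
    show σ k (l (ρ (k : G)⁻¹ (ρ (h : G) v))) = σ h (σ (h⁻¹ * k) (l (ρ ((h⁻¹ * k : H) : G)⁻¹ v)))
    rw [← Module.End.mul_apply (σ h), ← map_mul, mul_inv_cancel_left,
      ← Module.End.mul_apply (ρ (k : G)⁻¹), ← map_mul, Subgroup.coe_mul, Subgroup.coe_inv,
      mul_inv_rev, inv_inv]
  have hLf : ∀ w, L (f.toLinearMap w) = w := by
    intro w
    simp only [L, LinearMap.smul_apply, LinearMap.coe_sum, Finset.sum_apply, LinearMap.comp_apply]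
    rw [Finset.sum_congr rfl (g := fun _ => w) fun h _ => by
      rw [← Subgroup.coe_inv, ← hfc, ← LinearMap.comp_apply l, hl, LinearMap.id_apply,
        ← Module.End.mul_apply, ← map_mul, mul_inv_cancel, map_one, Module.End.one_apply],
      Finset.sum_const, Finset.card_univ, ← Nat.card_eq_fintype_card, ← Nat.cast_smul_eq_nsmul ℂ,
      smul_smul, inv_mul_cancel₀ (Nat.cast_ne_zero.2 Nat.card_pos.ne'), one_smul]
  let P : (Fin n → ℂ) →ₗ[ℂ] (Fin m → ℂ) →ₗ[ℂ] ℂ := B.compl₂ f.toLinearMap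
  let Φ : Representation.IntertwiningMap τ σ.dual := ⟨P, fun h => by
    refine LinearMap.ext fun v => LinearMap.ext fun w => ?_
    show B (ρ (h : G) v) (f.toLinearMap w) = B v (f.toLinearMap (σ h⁻¹ w))
    rw [hfc, Subgroup.coe_inv, ← hB (h : G) v (ρ (h : G)⁻¹ _), ← Module.End.mul_apply, ← map_mul,
      mul_inv_cancel, map_one, Module.End.one_apply]⟩
  let Ψ : Representation.IntertwiningMap τ σ.dual := ⟨J ∘ₗ L, fun h => by
    refine LinearMap.ext fun v => LinearMap.ext fun w => ?_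
    show J (L (ρ (h : G) v)) w = J (L v) (σ h⁻¹ w)
    rw [hLc, ← hJ h (L v) (σ h⁻¹ _), ← Module.End.mul_apply, ← map_mul,
      mul_inv_cancel, map_one, Module.End.one_apply]⟩
  obtain ⟨w₀, hw₀⟩ : ∃ w, f.toLinearMap w ≠ 0 := by
    by_contra! h; exact hfl0 (LinearMap.ext h)
  have hΦ0 : Φ ≠ 0 := by
    intro h
    have hP : ∀ v w, B v (f.toLinearMap w) = 0 := fun v w =>
      LinearMap.congr_fun (LinearMap.congr_fun
        (congrArg Representation.IntertwiningMap.toLinearMap h) v) w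
    let S : Subrepresentation ρ := ⟨LinearMap.ker B.flip, fun g u hu => by
      rw [LinearMap.mem_ker] at hu ⊢
      refine LinearMap.ext fun v => ?_
      show B v (ρ g u) = 0
      rw [← hB g⁻¹, ← Module.End.mul_apply (ρ g⁻¹) (ρ g), ← map_mul, inv_mul_cancel, map_one,
        Module.End.one_apply]
      exact LinearMap.congr_fun hu _⟩
    have hmem : f.toLinearMap w₀ ∈ LinearMap.ker B.flip := by
      rw [LinearMap.mem_ker]
      exact LinearMap.ext fun v => hP v w₀
    rcases eq_bot_or_eq_top S with hS | hS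
    · rw [show LinearMap.ker B.flip = ⊥ from congrArg Subrepresentation.toSubmodule hS,
        Submodule.mem_bot] at hmem
      exact hw₀ hmem
    · have := LinearMap.ker_eq_top.1 (congrArg Subrepresentation.toSubmodule hS)
      exact hB0 (by rw [← LinearMap.flip_flip B, this]; rfl)
  obtain ⟨c, hc⟩ := exists_smul_eq_of_finrank_eq_one hd2 hΦ0 Ψ
  have hJB : ∀ u w, J u w = c * B (f.toLinearMap u) (f.toLinearMap w) := by
    intro u w
    have := LinearMap.congr_fun (LinearMap.congr_fun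
      (congrArg Representation.IntertwiningMap.toLinearMap hc) (f.toLinearMap u)) w
    change c * B (f.toLinearMap u) (f.toLinearMap w) = J (L (f.toLinearMap u)) w at this
    rw [this, hLf]
  obtain ⟨u, w, huw⟩ : ∃ u w, J u w ≠ 0 := by
    by_contra! h; exact hJ0 (LinearMap.ext fun u => LinearMap.ext (h u))
  have e1 : J w u = ε * J u w := by
    rw [hJB, hJB u w, hεB B hB (f.toLinearMap u) (f.toLinearMap w)]
    ring
  rw [hε1, hδ1]
  exact mul_right_cancel₀ huw (e1.symm.trans (hδB J hJ u w))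

end Cfsg.Agent.FSInd
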