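/-
* `fsInd_eq_one_of_odd_fixed`: a real irreducible character with an odd-dimensional space of
  fixed points under a subgroup has indicator `1`.
-/
import Cfsg.Agent.Lib.FSInd.Basic
import Mathlib.LinearAlgebra.Matrix.ToLinearEquiv

set_option autoImplicit false

namespace Cfsg.Agent.FSInd

open Cfsg Module
open scoped ComplexConjugate

variable {G : Type*} [Group G] [Fintype G]

theorem fsInd_eq_one_of_odd_fixed (H : Subgroup G) [Fintype H] {χ : G → ℂ}
    (hχ : IsIrrCharacter G χ) (hr : ∀ g : G, (χ g).im = 0) {e : ℕ}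
    (he : classInner (fun h : H => χ h) 1 = (e : ℂ)) (hodd : Odd e) : fsInd χ = 1 := by
  classical
  obtain ⟨n, ρ, hρ, rfl⟩ := hχ
  have := hρ
  obtain ⟨ε, hε | hε, hε1, hεB⟩ := sign_cases (ρ := ρ) hr
  · rw [hε1, hε]
  exfalso
  obtain ⟨B, hB, hB0, -⟩ := exists_form (ρ := ρ) hr
  let τ : Representation ℂ H (Fin n → ℂ) := ρ.comp H.subtype
  have hinj : ∀ v : Fin n → ℂ, (∀ u, B v u = 0) → v = 0 := by
    let S : Subrepresentation ρ := ⟨LinearMap.ker B, fun g u hu => by
      rw [LinearMap.mem_ker] at hu ⊢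
      refine LinearMap.ext fun v => ?_
      rw [LinearMap.zero_apply, ← hB g⁻¹, ← Module.End.mul_apply (ρ g⁻¹) (ρ g), ← map_mul,
        inv_mul_cancel, map_one, Module.End.one_apply, hu, LinearMap.zero_apply]⟩
    intro v hv
    have hmem : v ∈ LinearMap.ker B := LinearMap.mem_ker.2 (LinearMap.ext hv)
    rcases eq_bot_or_eq_top S with hS | hS
    · rw [show LinearMap.ker B = ⊥ from congrArg Subrepresentation.toSubmodule hS,
        Submodule.mem_bot] at hmem
      exact hmem
    · exact absurd (LinearMap.ker_eq_top.1 (congrArg Subrepresentation.toSubmodule hS)) hB0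
  -- the projection onto the fixed points
  let A : (Fin n → ℂ) →ₗ[ℂ] (Fin n → ℂ) := (Nat.card H : ℂ)⁻¹ • ∑ h : H, τ h
  let W : Submodule ℂ (Fin n → ℂ) := τ.invariants
  have hAid : ∀ v ∈ W, A v = v := by
    intro v hv
    simp only [A, LinearMap.smul_apply, LinearMap.coe_sum, Finset.sum_apply,
      (Representation.mem_invariants τ v).1 hv, Finset.sum_const, Finset.card_univ,
      ← Nat.card_eq_fintype_card, ← Nat.cast_smul_eq_nsmul ℂ, smul_smul]
    rw [inv_mul_cancel₀ (Nat.cast_ne_zero.2 Nat.card_pos.ne'), one_smul]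
  have hAmem : ∀ v, A v ∈ W := by
    intro v
    refine (Representation.mem_invariants τ _).2 fun k => ?_
    simp only [A, LinearMap.smul_apply, LinearMap.coe_sum, Finset.sum_apply, map_smul, map_sum]
    congr 1
    refine Fintype.sum_equiv (Equiv.mulLeft k) _ _ fun h => ?_
    show τ k (τ h v) = τ (k * h) v
    rw [map_mul]; rfl
  have htr : (finrank ℂ W : ℂ) = (e : ℂ) := by
    rw [← LinearMap.IsProj.trace (p := W) ⟨hAmem, hAid⟩, ← he, map_smul, map_sum, classInner,
      smul_eq_mul]
    congr 1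
    exact Finset.sum_congr rfl fun h _ => by simp only [Pi.one_apply, map_one, mul_one]; rfl
  have hW : Odd (finrank ℂ W) := by rwa [Nat.cast_injective htr]
  let b := Module.finBasis ℂ W
  let N : Matrix (Fin (finrank ℂ W)) (Fin (finrank ℂ W)) ℂ := fun i j => B (b i) (b j)
  have hN : N.transpose = -N := by
    ext i j
    show B (b j : Fin n → ℂ) (b i) = -B (b i : Fin n → ℂ) (b j)
    rw [hεB B hB (b i) (b j), hε]; ring
  have hdet : N.det = 0 := by
    have h := congrArg Matrix.det hN
    rw [Matrix.det_transpose, Matrix.det_neg, Fintype.card_fin, Odd.neg_one_pow hW] at h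
    linear_combination h / 2
  obtain ⟨c, hc0, hc⟩ := Matrix.exists_mulVec_eq_zero_iff.2 hdet
  let w : W := ∑ j, c j • b j
  have hw0 : w ≠ 0 := fun h => hc0 (funext fun j =>
    (Fintype.linearIndependent_iff.1 b.linearIndependent) c h j)
  have hwW : ∀ u ∈ W, B u (w : Fin n → ℂ) = 0 := by
    intro u hu
    have hu' : u = ((∑ i, b.repr ⟨u, hu⟩ i • b i : W) : Fin n → ℂ) := by rw [b.sum_repr]
    rw [hu']
    simp only [w, Submodule.coe_sum, Submodule.coe_smul, map_sum, map_smul, LinearMap.coe_sum,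
      Finset.sum_apply, LinearMap.smul_apply, smul_eq_mul]
    simp only [Finset.mul_sum]
    rw [Finset.sum_comm]
    refine Finset.sum_eq_zero fun i _ => ?_
    have := congrFun hc i
    simp only [Matrix.mulVec, dotProduct, Pi.zero_apply, N] at this
    rw [Finset.sum_congr rfl (g := fun j => b.repr ⟨u, hu⟩ i * (B (b i) (b j) * c j))
      fun j _ => by ring, ← Finset.mul_sum, this, mul_zero]
  refine hw0 (Subtype.ext (hinj _ fun u => ?_))
  have hfix : ∀ h : H, B (w : Fin n → ℂ) (τ h u) = B (w : Fin n → ℂ) u := fun h => by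
    conv_lhs => rw [← (Representation.mem_invariants τ _).1 w.2 h]
    exact hB (h : G) _ _
  have hA : B (w : Fin n → ℂ) (A u) = B (w : Fin n → ℂ) u := by
    simp only [A, LinearMap.smul_apply, LinearMap.coe_sum, Finset.sum_apply, map_smul, map_sum,
      hfix, Finset.sum_const, Finset.card_univ, ← Nat.card_eq_fintype_card, smul_eq_mul,
      nsmul_eq_mul]
    rw [← mul_assoc, inv_mul_cancel₀ (Nat.cast_ne_zero.2 Nat.card_pos.ne'), one_mul]
  rw [← hA, hεB B hB (A u) w, hwW _ (hAmem u), mul_zero]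

end Cfsg.Agent.FSInd
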