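/-
Real forms and the Frobenius-Schur indicator.

* `exists_real_of_fsInd_one` : indicator one gives a real representation
* `fsInd_one_of_real` : an irreducible character afforded by a real representation has indicator one
-/
import Cfsg.Agent.Lib.FSInd.Basic
import Cfsg.Agent.Lib.CharApp.Schur
import Mathlib.LinearAlgebra.Complex.FiniteDimensional
import Mathlib.LinearAlgebra.Matrix.SesquilinearForm

set_option autoImplicit false

namespace Cfsg.Agent.FSInd

open Cfsg Module
open scoped ComplexConjugate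

variable {G : Type*} [Group G] [Fintype G]

theorem fsInd_one_of_real {χ : G → ℂ} (hχ : IsIrrCharacter G χ) {m : ℕ}
    (ρ : Representation ℝ G (Fin m → ℝ))
    (hρ : ∀ g : G, ((LinearMap.trace ℝ (Fin m → ℝ) (ρ g) : ℝ) : ℂ) = χ g) : fsInd χ = 1 := by
  classical
  let X : G → Matrix (Fin m) (Fin m) ℝ := fun g => LinearMap.toMatrix' (ρ g)
  have hX1 : X 1 = 1 := by simp [X]
  have hXm : ∀ g h, X (g * h) = X g * X h := fun g h => by simp [X, map_mul, LinearMap.toMatrix'_mul]
  let τ : Representation ℂ G (Fin m → ℂ) :=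
    { toFun := fun g => Matrix.toLinAlgEquiv' ((X g).map (algebraMap ℝ ℂ))
      map_one' := by rw [hX1, Matrix.map_one _ (map_zero _) (map_one _), map_one]
      map_mul' := fun g h => by rw [hXm, Matrix.map_mul, map_mul] }
  have hτm : ∀ g, LinearMap.toMatrix' (τ g) = (X g).map (algebraMap ℝ ℂ) := fun g =>
    LinearMap.toMatrix'_toLin' _
  have hch : τ.character = χ := by
    funext g
    rw [← hρ g, Representation.character, LinearMap.trace_eq_matrix_trace ℂ (Pi.basisFun ℂ (Fin m)),
      LinearMap.trace_eq_matrix_trace ℝ (Pi.basisFun ℝ (Fin m)), LinearMap.toMatrix_eq_toMatrix',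
      LinearMap.toMatrix_eq_toMatrix', hτm]
    simp [Matrix.trace, X]
  obtain ⟨n, σ, hσ, hσc⟩ := hχ
  obtain ⟨e⟩ := Char.equiv_of_character_eq σ τ (hσc.trans hch.symm)
  haveI hτi : τ.IsIrreducible := Char.isIrreducible_congr e hσ
  have hreal : ∀ g, (τ.character g).im = 0 := fun g => by rw [hch, ← hρ g]; simp
  obtain ⟨ε, -, hε, hall⟩ := sign_cases (ρ := τ) hreal
  rw [← hch, hε]
  obtain ⟨H, hH⟩ : ∃ H : Matrix (Fin m) (Fin m) ℝ, H = ∑ g : G, (X g).transpose * X g := ⟨_, rfl⟩
  have hinv : ∀ h, (X h).transpose * H * X h = H := by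
    intro h
    rw [hH, Matrix.mul_sum, Matrix.sum_mul]
    refine Fintype.sum_equiv (Equiv.mulRight h) _ _ fun g => ?_
    rw [Equiv.coe_mulRight, hXm, Matrix.transpose_mul]
    simp only [mul_assoc]
  have hsym : H.transpose = H := by
    rw [hH, Matrix.transpose_sum]
    exact Finset.sum_congr rfl fun g _ => by rw [Matrix.transpose_mul, Matrix.transpose_transpose]
  obtain ⟨i⟩ : Nonempty (Fin m) := by
    rcases m with _ | m
    · exfalso
      have hp := CharApp.finrank_pos_of_irr τ
      simp at hp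
    · exact ⟨0⟩
  have hpos : 0 < H i i := by
    rw [hH, Matrix.sum_apply]
    refine Finset.sum_pos' (fun g _ => ?_) ⟨1, Finset.mem_univ _, ?_⟩
    · rw [Matrix.mul_apply]
      exact Finset.sum_nonneg fun j _ => by rw [Matrix.transpose_apply]; exact mul_self_nonneg _
    · rw [hX1, Matrix.transpose_one, one_mul, Matrix.one_apply_eq]; exact one_pos
  have hB : IsInvForm τ (Matrix.toLinearMap₂' ℂ (H.map (algebraMap ℝ ℂ))) := by
    intro g u v
    conv_rhs => rw [← hinv g]
    rw [Matrix.map_mul, Matrix.map_mul, Matrix.transpose_map, ← hτm g]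
    simp only [Matrix.toLinearMap₂'_apply']
    rw [← Matrix.mulVec_mulVec, ← Matrix.mulVec_mulVec, LinearMap.toMatrix'_mulVec]
    conv_rhs => rw [Matrix.dotProduct_mulVec, Matrix.vecMul_transpose, LinearMap.toMatrix'_mulVec]
  have h := hall _ hB (Pi.single i 1) (Pi.single i 1)
  simp only [Matrix.toLinearMap₂'_apply', single_one_dotProduct, Matrix.mulVec_single_one,
    Matrix.col_apply, Matrix.map_apply] at h
  have hne : (algebraMap ℝ ℂ) (H i i) ≠ 0 := by simpa using hpos.ne'
  exact (mul_eq_right₀ hne).1 h.symm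

theorem exists_real_of_fsInd_one {χ : G → ℂ} (hχ : IsIrrCharacter G χ) (hν : fsInd χ = 1) :
    ∃ (m : ℕ) (ρ : Representation ℝ G (Fin m → ℝ)),
      ∀ g : G, ((LinearMap.trace ℝ (Fin m → ℝ) (ρ g) : ℝ) : ℂ) = χ g := by
  classical
  have hreal := real_of_fsInd_ne_zero hχ (by rw [hν]; exact one_ne_zero)
  obtain ⟨n, ρ, hρi, rfl⟩ := hχ
  haveI := hρi
  obtain ⟨B, hB, hB0, -⟩ := exists_form (ρ := ρ) hreal
  obtain ⟨ε, -, hε, hall⟩ := sign_cases (ρ := ρ) hreal
  have hsym : ∀ u v, B v u = B u v := fun u v => by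
    rw [hall B hB u v, ← hε, hν, one_mul]
  -- invariant inner product
  obtain ⟨h, hhdef⟩ : ∃ h : (Fin n → ℂ) → (Fin n → ℂ) → ℂ,
      ∀ u v, h u v = ∑ g : G, ∑ i, conj (ρ g u i) * ρ g v i := ⟨_, fun u v => rfl⟩
  have hinv : ∀ g u v, h (ρ g u) (ρ g v) = h u v := by
    intro g u v
    rw [hhdef, hhdef]
    refine Fintype.sum_equiv (Equiv.mulRight g) _ _ fun k => ?_
    simp only [Equiv.coe_mulRight, map_mul, Module.End.mul_apply]
  have hpos : ∀ u, u ≠ 0 → ∃ r : ℝ, 0 < r ∧ h u u = (r : ℂ) := by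
    intro u hu
    refine ⟨∑ g : G, ∑ i, Complex.normSq (ρ g u i), ?_, ?_⟩
    · refine Finset.sum_pos' (fun g _ => Finset.sum_nonneg fun i _ => Complex.normSq_nonneg _)
        ⟨1, Finset.mem_univ _, ?_⟩
      obtain ⟨i, hi⟩ := Function.ne_iff.1 hu
      refine Finset.sum_pos' (fun i _ => Complex.normSq_nonneg _) ⟨i, Finset.mem_univ _, ?_⟩
      rw [map_one, Module.End.one_apply]
      exact Complex.normSq_pos.2 hi
    · rw [hhdef]
      push_cast
      simp only [← Complex.normSq_eq_conj_mul_self]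
  let Φ : (Fin n → ℂ) →ₗ[ℝ] ((Fin n → ℂ) →ₗ[ℂ] ℂ) :=
    { toFun := fun u =>
        { toFun := fun v => h u v
          map_add' := fun a b => by
            simp only [hhdef, map_add, Pi.add_apply, mul_add, Finset.sum_add_distrib]
          map_smul' := fun c a => by
            simp only [hhdef, map_smul, Pi.smul_apply, smul_eq_mul, RingHom.id_apply, Finset.mul_sum]
            exact Finset.sum_congr rfl fun g _ => Finset.sum_congr rfl fun i _ => by ring }
      map_add' := fun a b => LinearMap.ext fun v => by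
        show h (a + b) v = h a v + h b v
        simp only [hhdef, map_add, Pi.add_apply, add_mul, Finset.sum_add_distrib]
      map_smul' := fun c a => LinearMap.ext fun v => by
        show h (c • a) v = (c : ℝ) • h a v
        rw [← Complex.coe_smul c a, Complex.real_smul]
        simp only [hhdef, map_smul, Pi.smul_apply, smul_eq_mul, map_mul, Complex.conj_ofReal,
          Finset.mul_sum, mul_assoc] }
  have hΦa : ∀ u v, Φ u v = h u v := fun u v => rfl
  have hΦinj : Function.Injective Φ := by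
    refine (injective_iff_map_eq_zero Φ).2 fun u hu => by_contra fun hne => ?_
    obtain ⟨r, hr, e⟩ := hpos u hne
    rw [← hΦa, hu, LinearMap.zero_apply] at e
    exact hr.ne' (by exact_mod_cast e.symm)
  have hΦbij : Function.Bijective Φ := by
    refine ⟨hΦinj, (LinearMap.injective_iff_surjective_of_finrank_eq_finrank ?_).1 hΦinj⟩
    rw [finrank_real_of_complex, finrank_real_of_complex]
    simp
  let e := LinearEquiv.ofBijective Φ hΦbij
  let J : (Fin n → ℂ) →ₗ[ℝ] (Fin n → ℂ) := e.symm.toLinearMap.comp (B.restrictScalars ℝ)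
  have hJ : ∀ v w, h (J v) w = B v w := fun v w => by
    rw [← hΦa]
    exact LinearMap.congr_fun (e.apply_symm_apply (B v)) w
  have hext : ∀ a b : Fin n → ℂ, (∀ w, h a w = h b w) → a = b := fun a b hab =>
    hΦinj (LinearMap.ext fun w => hab w)
  have hsmul : ∀ (a : ℂ) u v, h (a • u) v = conj a * h u v := fun a u v => by
    simp only [hhdef, map_smul, Pi.smul_apply, smul_eq_mul, map_mul, Finset.mul_sum, mul_assoc]
  have hJs : ∀ (a : ℂ) v, J (a • v) = conj a • J v := fun a v => hext _ _ fun w => by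
    rw [hJ, map_smul, LinearMap.smul_apply, smul_eq_mul, hsmul, Complex.conj_conj, hJ]
  have hJρ : ∀ g v, J (ρ g v) = ρ g (J v) := fun g v => hext _ _ fun w => by
    have hw : w = ρ g (ρ g⁻¹ w) := by
      rw [← Module.End.mul_apply, ← map_mul, mul_inv_cancel, map_one, Module.End.one_apply]
    rw [hJ]
    conv_lhs => rw [hw, hB]
    conv_rhs => rw [hw, hinv, hJ]
  let J2 : Module.End ℂ (Fin n → ℂ) :=
    { toFun := fun v => J (J v)
      map_add' := fun a b => by rw [map_add, map_add]
      map_smul' := fun a v => by rw [hJs, hJs, Complex.conj_conj, RingHom.id_apply] }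
  obtain ⟨c, hc⟩ := CharApp.exists_scalar_of_commute ρ J2 (fun g => LinearMap.ext fun v => by
    show J (J (ρ g v)) = ρ g (J (J v))
    rw [hJρ, hJρ])
  have hc' : ∀ v, J (J v) = c • v := fun v => by
    have := LinearMap.congr_fun hc v
    simpa [J2] using this
  obtain ⟨v0, hv0⟩ : ∃ v, J v ≠ 0 := by
    by_contra! hno
    refine hB0 (LinearMap.ext fun v => LinearMap.ext fun w => ?_)
    rw [← hJ v w, hno v, hhdef]
    simp
  have hv00 : v0 ≠ 0 := fun h0 => hv0 (by rw [h0, map_zero])
  obtain ⟨r, hr, hcr⟩ : ∃ r : ℝ, 0 < r ∧ c = (r : ℂ) := by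
    obtain ⟨a, ha, hea⟩ := hpos _ hv00
    obtain ⟨b, hb, heb⟩ := hpos _ hv0
    refine ⟨b / a, div_pos hb ha, ?_⟩
    rw [hJ, hsym, ← hJ, hc', hsmul, hea] at heb
    have ha' : (a : ℂ) ≠ 0 := by exact_mod_cast ha.ne'
    have hc2 : conj c = ((b / a : ℝ) : ℂ) := by
      push_cast
      rw [eq_div_iff ha', heb]
    rw [← Complex.conj_conj c, hc2, Complex.conj_ofReal]
  obtain ⟨s, hs, hss⟩ : ∃ s : ℝ, 0 < s ∧ s * s * r = 1 := by
    refine ⟨(Real.sqrt r)⁻¹, inv_pos.2 (Real.sqrt_pos.2 hr), ?_⟩
    rw [← mul_inv, Real.mul_self_sqrt hr.le, inv_mul_cancel₀ hr.ne']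
  obtain ⟨K, hK⟩ : ∃ K : (Fin n → ℂ) →ₗ[ℝ] (Fin n → ℂ), K = s • J := ⟨_, rfl⟩
  have hKK : ∀ v, K (K v) = v := fun v => by
    rw [hK, LinearMap.smul_apply, LinearMap.smul_apply, map_smul, hc', smul_smul, hcr, Complex.coe_smul,
      smul_smul, hss, one_smul]
  have hKs : ∀ (a : ℂ) v, K (a • v) = conj a • K v := fun a v => by
    rw [hK, LinearMap.smul_apply, LinearMap.smul_apply, hJs, smul_comm]
  have hKρ : ∀ g v, K (ρ g v) = ρ g (K v) := fun g v => by
    rw [hK, LinearMap.smul_apply, LinearMap.smul_apply, hJρ, LinearMap.map_smul_of_tower]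
  let W : Submodule ℝ (Fin n → ℂ) := LinearMap.eqLocus K LinearMap.id
  have hW : ∀ v, v ∈ W ↔ K v = v := fun v => Iff.rfl
  let ρW : Representation ℝ G W :=
    { toFun := fun g => ((ρ g).restrictScalars ℝ).restrict (p := W) (q := W) (fun v hv => by
        rw [hW] at hv ⊢
        rw [LinearMap.restrictScalars_apply, hKρ, hv])
      map_one' := LinearMap.ext fun v => Subtype.ext (by
        show ρ 1 (v : Fin n → ℂ) = v
        rw [map_one]; rfl)
      map_mul' := fun g k => LinearMap.ext fun v => Subtype.ext (by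
        show ρ (g * k) (v : Fin n → ℂ) = ρ g (ρ k v)
        rw [map_mul]; rfl) }
  have hρW : ∀ g (w : W), ((ρW g w : W) : Fin n → ℂ) = ρ g w := fun g w => rfl
  obtain ⟨m, hm⟩ : ∃ m, finrank ℝ W = m := ⟨_, rfl⟩
  let b : Basis (Fin m) ℝ W := Module.finBasisOfFinrankEq ℝ W hm
  let w : Fin m → (Fin n → ℂ) := fun i => (b i : Fin n → ℂ)
  have hli : LinearIndependent ℂ w := by
    rw [Fintype.linearIndependent_iff]
    intro a ha i
    have h2 : ∑ i, conj (a i) • w i = 0 := by
      have := congrArg K ha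
      rw [map_sum, map_zero] at this
      rw [← this]
      refine Finset.sum_congr rfl fun i _ => ?_
      rw [hKs]
      exact congrArg _ ((hW _).1 (b i).2).symm
    have key : ∀ f : Fin m → ℝ, ∑ i, (f i : ℂ) • w i = 0 → ∀ i, f i = 0 := by
      intro f hf
      refine Fintype.linearIndependent_iff.1 b.linearIndependent f (Subtype.ext ?_)
      rw [AddSubmonoidClass.coe_finsetSum, ZeroMemClass.coe_zero, ← hf]
      exact Finset.sum_congr rfl fun i _ => by rw [Submodule.coe_smul, Complex.coe_smul]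
    have hre := key (fun i => (a i).re) (by
      calc ∑ i, (((a i).re : ℝ) : ℂ) • w i = (2 : ℂ)⁻¹ • (∑ i, a i • w i + ∑ i, conj (a i) • w i) := by
            rw [← Finset.sum_add_distrib, Finset.smul_sum]
            refine Finset.sum_congr rfl fun i _ => ?_
            rw [← add_smul, smul_smul, Complex.add_conj]
            push_cast
            congr 1; ring
        _ = 0 := by rw [ha, h2, add_zero, smul_zero])
    have him := key (fun i => (a i).im) (by
      calc ∑ i, (((a i).im : ℝ) : ℂ) • w i =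
            (2 * Complex.I)⁻¹ • (∑ i, a i • w i - ∑ i, conj (a i) • w i) := by
            rw [← Finset.sum_sub_distrib, Finset.smul_sum]
            refine Finset.sum_congr rfl fun i _ => ?_
            rw [← sub_smul, smul_smul, Complex.sub_conj]
            push_cast
            congr 1
            field_simp
        _ = 0 := by rw [ha, h2, sub_zero, smul_zero])
    exact Complex.ext (hre i) (him i)
  have hspan : ⊤ ≤ Submodule.span ℂ (Set.range w) := by
    have hmem : ∀ v : Fin n → ℂ, v ∈ W → v ∈ Submodule.span ℂ (Set.range w) := by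
      intro v hv
      have := congrArg (fun u : W => (u : Fin n → ℂ)) (b.sum_repr ⟨v, hv⟩)
      simp only [AddSubmonoidClass.coe_finsetSum, Submodule.coe_smul] at this
      rw [← this]
      refine Submodule.sum_mem _ fun i _ => ?_
      rw [← Complex.coe_smul]
      exact Submodule.smul_mem _ _ (Submodule.subset_span ⟨i, rfl⟩)
    intro v _
    have e : v = (2 : ℂ)⁻¹ • (v + K v) + (-Complex.I / 2) • (Complex.I • (v - K v)) := by
      rw [smul_smul, show -Complex.I / 2 * Complex.I = (2 : ℂ)⁻¹ by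
        rw [div_mul_eq_mul_div, neg_mul, Complex.I_mul_I]; norm_num, ← smul_add]
      rw [show v + K v + (v - K v) = (2 : ℂ) • v by rw [two_smul]; abel, smul_smul,
        inv_mul_cancel₀ two_ne_zero, one_smul]
    rw [e]
    refine Submodule.add_mem _ (Submodule.smul_mem _ _ (hmem _ ?_)) (Submodule.smul_mem _ _ (hmem _ ?_))
    · rw [hW, map_add, hKK, add_comm]
    · rw [hW, hKs, map_sub, hKK, Complex.conj_I, neg_smul, ← smul_neg, neg_sub]
  let bc : Basis (Fin m) ℂ (Fin n → ℂ) := Basis.mk hli hspan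
  refine ⟨m, { toFun := fun g => b.equivFun.conj (ρW g)
               map_one' := by rw [map_one]; exact LinearEquiv.conj_id _
               map_mul' := fun g k => by rw [map_mul]; exact LinearEquiv.conj_comp _ _ _ }, fun g => ?_⟩
  show ((LinearMap.trace ℝ _ (b.equivFun.conj (ρW g)) : ℝ) : ℂ) = _
  rw [LinearMap.trace_conj', LinearMap.trace_eq_matrix_trace ℝ b, Representation.character,
    LinearMap.trace_eq_matrix_trace ℂ bc, Matrix.trace, Matrix.trace, Complex.ofReal_sum]
  refine Finset.sum_congr rfl fun i _ => ?_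
  simp only [Matrix.diag_apply, LinearMap.toMatrix_apply]
  have e : ρ g (bc i) = ∑ j, ((b.repr (ρW g (b i)) j : ℝ) : ℂ) • bc j := by
    simp only [bc, Basis.mk_apply]
    rw [← hρW g (b i)]
    conv_lhs => rw [← b.sum_repr (ρW g (b i))]
    rw [AddSubmonoidClass.coe_finsetSum]
    exact Finset.sum_congr rfl fun j _ => by rw [Submodule.coe_smul, Complex.coe_smul]
  rw [e, bc.repr_sum_self]

end Cfsg.Agent.FSInd
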